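import Cfsg.Agent.Helper39.U34.Defs

/-!
# Helper39 / U3(4): the table of the 65 isotropic points is correct (kernel computations)
-/

set_option autoImplicit false

namespace Cfsg.Agent.Helper39.U34

/-! ### the table of points -/

set_option maxRecDepth 100000 in
theorem isPt_pt : ∀ i : Fin 65, IsPt (pt i) := by decide +kernel

set_option maxRecDepth 100000 in
theorem idx_pt : ∀ i : Fin 65, idx (pt i) = i := by decide +kernel

set_option maxRecDepth 100000 in
theorem pt_idx_aux : ∀ a b c : GF16, IsPt ![a, b, c] → pt (idx ![a, b, c]) = ![a, b, c] := by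
  decide +kernel

end Cfsg.Agent.Helper39.U34
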