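import Cfsg.Agent.Helper39.U34.Defs

/-!
# Helper39 / U3(4): explicit data

* `m13`, `m10`, `m15`: matrices of elements of `SU_3(4)` of orders 13, 10, 15;
* `sigTab`: the permutation of the 65 points induced by `m13` (`i ↦ sigTab[i]`), five orbits of
  length 13 with representatives `0, 1, 4, 5, 6` (`repTab`);
* `w0Tab`: a non-constant function on the points all of whose block sums vanish mod 5.
-/

set_option autoImplicit false

namespace Cfsg.Agent.Helper39.U34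

/-- the element of `GF16` with bit vector `n` -/
abbrev gf (n : ℕ) : GF16 := GF16.ofNat n

/-- an element of order 13 -/
def m13 : Matrix (Fin 3) (Fin 3) GF16 := !![gf 14, gf 1, gf 9; gf 5, gf 5, gf 1; gf 12, gf 4, gf 6]

/-- an element of order 10 -/
def m10 : Matrix (Fin 3) (Fin 3) GF16 := !![gf 0, gf 0, gf 1; gf 0, gf 10, gf 0; gf 12, gf 0, gf 0]

/-- an element of order 15 -/
def m15 : Matrix (Fin 3) (Fin 3) GF16 := !![gf 11, gf 0, gf 6; gf 0, gf 8, gf 0; gf 4, gf 0, gf 7]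

/-- the permutation of the points induced by `m13` -/
def sigTab : List ℕ :=
  [46, 34, 40, 19, 64, 51, 18, 31, 63, 2, 8, 59, 43, 24, 33, 30, 44, 49, 39, 0, 29, 9, 45, 1, 47,
   16, 42, 58, 7, 62, 48, 37, 3, 60, 21, 54, 52, 23, 55, 10, 27, 22, 15, 13, 14, 12, 11, 57, 6, 20,
   61, 38, 26, 35, 56, 41, 4, 5, 28, 25, 32, 53, 50, 36, 17]

/-- the orbit representative (`0, 1, 4, 5, 6`) of each point under `sigTab` -/
def repTab : List ℕ :=
  [0, 1, 1, 0, 4, 5, 6, 1, 6, 1, 6, 0, 5, 5, 0, 6, 0, 4, 6, 0, 4, 1, 5, 1, 5, 0, 6, 1, 1, 4, 6, 1,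
   0, 0, 1, 4, 6, 1, 5, 6, 1, 5, 6, 5, 0, 5, 0, 5, 6, 4, 4, 5, 6, 4, 4, 5, 4, 5, 1, 0, 0, 4, 4, 6,
   4]

/-- a non-constant element of `W` -/
def w0Tab : List ℕ :=
  [0, 3, 3, 4, 0, 2, 1, 0, 2, 0, 0, 1, 4, 0, 2, 3, 1, 3, 0, 1, 0, 0, 0, 4, 3, 3, 0, 1, 3, 2, 4, 2,
   0, 4, 4, 0, 1, 1, 4, 2, 2, 0, 3, 4, 4, 1, 3, 0, 2, 2, 1, 0, 0, 0, 0, 0, 0, 0, 0, 0, 0, 0, 0, 0,
   0]

/-- a non-constant element of `W` -/
def w0 (i : Fin 65) : ZMod 5 := (w0Tab.getD i.1 0 : ℕ)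

end Cfsg.Agent.Helper39.U34
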