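import Cfsg.Agent.Helper39.U34.GF16
import Cfsg.Prelude.Def_Classical

/-!
# Helper39 / U3(4): definitions

* `G0 = SU 3 GF16 4`, the hermitian form `herm`, the `65` isotropic points `pt : Fin 65 → Vec`
  (normalised: first nonzero coordinate `1`), the action of `G0` on `Fin 65`;
* `Blk a b z`: the point `z` lies on the line through `a` and `b`;
* `W`: functions `Fin 65 → ZMod 5` all of whose block sums vanish (13-dimensional).
-/

set_option autoImplicit false

namespace Cfsg.Agent.Helper39.U34

/-- vectors of `GF16^3` -/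
abbrev Vec : Type := Fin 3 → GF16

/-- the group `SU_3(4)` over the concrete field -/
abbrev G0 : Type := ↥(Cfsg.SU 3 GF16 4)

/-- the matrix of an element of `G0` -/
def mat (g : G0) : Matrix (Fin 3) (Fin 3) GF16 := (g : Matrix.SpecialLinearGroup (Fin 3) GF16).1

/-- the hermitian form `Σ u_i v_i^4` -/
def herm (u v : Vec) : GF16 := u 0 * v 0 ^ 4 + u 1 * v 1 ^ 4 + u 2 * v 2 ^ 4

/-- the determinant of three vectors (characteristic 2: no signs) -/
def det3 (a b c : Vec) : GF16 :=
  a 0 * (b 1 * c 2 + b 2 * c 1) + a 1 * (b 0 * c 2 + b 2 * c 0) + a 2 * (b 0 * c 1 + b 1 * c 0)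

/-- the first nonzero coordinate -/
def lead (v : Vec) : GF16 := if v 0 = 0 then (if v 1 = 0 then v 2 else v 1) else v 0

/-- normalise: divide by the first nonzero coordinate -/
def nrm (v : Vec) : Vec := fun i => (lead v)⁻¹ * v i

/-- a normalised isotropic vector -/
def IsPt (v : Vec) : Prop := herm v v = 0 ∧ lead v = 1

instance (v : Vec) : Decidable (IsPt v) := by unfold IsPt; infer_instance

/-- the vector with code `n = v0 + 16 v1 + 256 v2` -/
def mkVec (n : ℕ) : Vec := ![GF16.ofNat n, GF16.ofNat (n / 16), GF16.ofNat (n / 256)]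

/-- the code of a vector -/
def code (v : Vec) : ℕ := (v 0).n + 16 * (v 1).n + 256 * (v 2).n

/-- the codes of the 65 points, sorted lexicographically in `(v0, v1, v2)` -/
def ptCodes : List ℕ :=
  [272, 2064, 2576, 3088, 3856, 257, 2049, 2561, 3073, 3841, 17, 1057, 1313, 1569, 2337, 3617,
   1073, 1329, 1585, 2353, 3633, 577, 833, 1857, 2881, 3393, 593, 849, 1873, 2897, 3409, 609,
   865, 1889, 2913, 3425, 1137, 1393, 1649, 2417, 3697, 129, 657, 913, 1937, 2961, 3473, 161,
   1201, 1457, 1713, 2481, 3761, 193, 1233, 1489, 1745, 2513, 3793, 737, 993, 2017, 3041, 3553,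
   241]

/-- the `i`-th point -/
def pt (i : Fin 65) : Vec := mkVec (ptCodes.getD i.1 0)

/-- the index of a point (`0` for other vectors, but we never use that) -/
def idx (v : Vec) : Fin 65 := ⟨ptCodes.idxOf (code v) % 65, Nat.mod_lt _ (by decide)⟩

/-- `z` lies on the line through `a` and `b` -/
def Blk (a b z : Fin 65) : Prop := det3 (pt a) (pt b) (pt z) = 0

instance (a b z : Fin 65) : Decidable (Blk a b z) := by unfold Blk; infer_instance

/-- the action of `G0` on point indices -/
def act (g : G0) (i : Fin 65) : Fin 65 := idx (nrm ((mat g).mulVec (pt i)))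

/-- the block sum -/
def bsum (w : Fin 65 → ZMod 5) (a b : Fin 65) : ZMod 5 := ∑ z, if Blk a b z then w z else 0

theorem bsum_add (w w' : Fin 65 → ZMod 5) (a b : Fin 65) :
    bsum (w + w') a b = bsum w a b + bsum w' a b := by
  unfold bsum
  rw [← Finset.sum_add_distrib]
  refine Finset.sum_congr rfl fun z _ => ?_
  split_ifs <;> simp

theorem bsum_smul (c : ZMod 5) (w : Fin 65 → ZMod 5) (a b : Fin 65) :
    bsum (c • w) a b = c * bsum w a b := by
  unfold bsum
  rw [Finset.mul_sum]
  refine Finset.sum_congr rfl fun z _ => ?_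
  split_ifs <;> simp

/-- the functions with vanishing block sums -/
def W : Submodule (ZMod 5) (Fin 65 → ZMod 5) where
  carrier := {w | ∀ a b : Fin 65, a ≠ b → bsum w a b = 0}
  add_mem' {w w'} hw hw' a b hab := by rw [bsum_add, hw a b hab, hw' a b hab, add_zero]
  zero_mem' a b _ := by simp [bsum]
  smul_mem' c w hw a b hab := by rw [bsum_smul, hw a b hab, mul_zero]

theorem mem_W {w : Fin 65 → ZMod 5} : w ∈ W ↔ ∀ a b : Fin 65, a ≠ b → bsum w a b = 0 := Iff.rfl

end Cfsg.Agent.Helper39.U34
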