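import Mathlib

/-!
# Helper39 / U3(4): a concrete computable model `GF16` of the field with 16 elements

`GF16 = F_2[x]/(x^4 + x + 1)`, elements stored as the 4-bit number of the coefficient vector.
All operations are `Nat` bit operations, which the kernel evaluates natively.
-/

set_option autoImplicit false

namespace Cfsg.Agent.Helper39.U34

/-- the field with 16 elements, as `F_2[x]/(x^4+x+1)`; `n` is the bit vector of coefficients -/
structure GF16 where
  n : ℕ
  h : n < 16
  deriving DecidableEq

namespace GF16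

/-- reduce a polynomial of degree `≤ 6` modulo `x^4 + x + 1` (bit vector `19`) -/
def red (r : ℕ) : ℕ :=
  let r := if r.testBit 6 then r ^^^ 76 else r
  let r := if r.testBit 5 then r ^^^ 38 else r
  if r.testBit 4 then r ^^^ 19 else r

/-- carry-less product of two 4-bit numbers -/
def clmul (a b : ℕ) : ℕ :=
  (if b.testBit 0 then a else 0) ^^^ (if b.testBit 1 then a <<< 1 else 0) ^^^
    (if b.testBit 2 then a <<< 2 else 0) ^^^ (if b.testBit 3 then a <<< 3 else 0)

/-- raw multiplication on numbers below 16 -/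
def mulN (a b : ℕ) : ℕ := red (clmul a b) % 16

/-- raw addition -/
def addN (a b : ℕ) : ℕ := (a ^^^ b) % 16

/-- inverse table (`0 ↦ 0`) -/
def invN (a : ℕ) : ℕ :=
  [0, 1, 9, 14, 13, 11, 7, 6, 15, 2, 12, 5, 10, 4, 3, 8].getD a 0 % 16

instance : Zero GF16 := ⟨⟨0, by decide⟩⟩
instance : One GF16 := ⟨⟨1, by decide⟩⟩
instance : Add GF16 := ⟨fun a b => ⟨addN a.n b.n, Nat.mod_lt _ (by decide)⟩⟩
instance : Mul GF16 := ⟨fun a b => ⟨mulN a.n b.n, Nat.mod_lt _ (by decide)⟩⟩
instance : Neg GF16 := ⟨id⟩
instance : Inv GF16 := ⟨fun a => ⟨invN a.n, Nat.mod_lt _ (by decide)⟩⟩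

/-- the element with bit vector `k % 16` -/
def ofNat (k : ℕ) : GF16 := ⟨k % 16, Nat.mod_lt _ (by decide)⟩

/-- equivalence with `Fin 16` -/
def equivFin : GF16 ≃ Fin 16 where
  toFun a := ⟨a.n, a.h⟩
  invFun i := ⟨i.1, i.2⟩
  left_inv _ := rfl
  right_inv _ := rfl

instance : Fintype GF16 := Fintype.ofEquiv (Fin 16) equivFin.symm

theorem card_eq : Fintype.card GF16 = 16 := by
  rw [Fintype.card_congr equivFin, Fintype.card_fin]

theorem forall_iff (p : GF16 → Prop) : (∀ a, p a) ↔ ∀ i : Fin 16, p (equivFin.symm i) :=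
  ⟨fun h i => h _, fun h a => by simpa using h (equivFin a)⟩

instance decForall (p : GF16 → Prop) [DecidablePred p] : Decidable (∀ a, p a) :=
  decidable_of_iff _ (forall_iff p).symm

theorem exists_iff (p : GF16 → Prop) : (∃ a, p a) ↔ ∃ i : Fin 16, p (equivFin.symm i) :=
  ⟨fun ⟨a, h⟩ => ⟨equivFin a, by simpa using h⟩, fun ⟨i, h⟩ => ⟨_, h⟩⟩

instance decExists (p : GF16 → Prop) [DecidablePred p] : Decidable (∃ a, p a) :=
  decidable_of_iff _ (exists_iff p).symm

instance : CommRing GF16 where
  add_assoc := by decide +kernel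
  zero_add := by decide +kernel
  add_zero := by decide +kernel
  nsmul := nsmulRec
  zsmul := zsmulRec
  neg_add_cancel := by decide +kernel
  add_comm := by decide +kernel
  left_distrib := by decide +kernel
  right_distrib := by decide +kernel
  zero_mul := by decide +kernel
  mul_zero := by decide +kernel
  mul_assoc := by decide +kernel
  one_mul := by decide +kernel
  mul_one := by decide +kernel
  mul_comm := by decide +kernel

instance : Field GF16 where
  exists_pair_ne := ⟨0, 1, by decide +kernel⟩
  mul_inv_cancel := by decide +kernel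
  inv_zero := rfl
  nnqsmul := _
  nnqsmul_def := fun _ _ => rfl
  qsmul := _
  qsmul_def := fun _ _ => rfl

theorem add_self (a : GF16) : a + a = 0 := by revert a; decide +kernel

theorem neg_eq (a : GF16) : -a = a := rfl

theorem two_eq_zero : (2 : GF16) = 0 := by
  have : (2 : GF16) = 1 + 1 := by norm_num
  rw [this, add_self]

theorem frob_add (a b : GF16) : (a + b) ^ 4 = a ^ 4 + b ^ 4 := by revert a b; decide +kernel

theorem pow_sixteen (a : GF16) : a ^ 16 = a := by revert a; decide +kernel

end GF16

end Cfsg.Agent.Helper39.U34
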