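import Cfsg.Agent.Helper39.U34.Semi

/-!
# Helper39 / U3(4): the generic assembly

`L` a finite group of order `62400 = 2^6·3·5^2·13` with elements of order `10` and `15`, acting on a
nontrivial finite abelian group `A` of exponent `5` such that one element of order `13` acts without
fixed points.  Then the groups `A^k ⋊ L` have the prime divisors of `L`, the joined pairs of `L` plus
possibly `{2,5}`, `{3,5}` (already joined in `L`), and arbitrarily large order.
-/

set_option autoImplicit false

namespace Cfsg.Agent.Helper39.U34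

open Cfsg.Agent.Helper8.G24

section generic

variable {L : Type} [Group L] {A : Type} [CommGroup A] (φ : L →* MulAut A)

/-- the diagonal action on `Fin k → A` -/
def phiK (k : ℕ) : L →* MulAut (Fin k → A) where
  toFun g := MulEquiv.piCongrRight (fun _ => φ g)
  map_one' := by
    ext f i
    simp
  map_mul' g h := by
    ext f i
    simp

@[simp] theorem phiK_apply (k : ℕ) (g : L) (f : Fin k → A) (i : Fin k) :
    phiK φ k g f i = φ g (f i) := rfl

theorem fpf_phiK (k : ℕ) {a : L} (ha : Fpf φ a) : Fpf (phiK φ k) a := by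
  intro f hf
  funext i
  have := congrFun hf i
  rw [phiK_apply] at this
  exact ha _ this

/-- the group `A^k ⋊ L` -/
abbrev HK (k : ℕ) : Type := (Fin k → A) ⋊[phiK φ k] L

instance finite_HK [Finite L] [Finite A] (k : ℕ) : Finite (HK φ k) :=
  Finite.of_equiv _ (SemidirectProduct.equivProd (φ := phiK φ k)).symm

theorem card_HK [Finite L] [Finite A] (k : ℕ) :
    Nat.card (HK φ k) = Nat.card A ^ k * Nat.card L := by
  rw [Nat.card_congr (SemidirectProduct.equivProd (φ := phiK φ k)), Nat.card_prod,
    Nat.card_fun, Nat.card_eq_fintype_card (α := Fin k), Fintype.card_fin]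

theorem prime_dvd_62400 {r : ℕ} (hr : r.Prime) (h : r ∣ 62400) :
    r = 2 ∨ r = 3 ∨ r = 5 ∨ r = 13 := by
  have e : (62400 : ℕ) = 2 ^ 6 * 3 * 5 ^ 2 * 13 := by norm_num
  rw [e] at h
  rcases (Nat.Prime.dvd_mul hr).1 h with h | h
  · rcases (Nat.Prime.dvd_mul hr).1 h with h | h
    · rcases (Nat.Prime.dvd_mul hr).1 h with h | h
      · left; exact (Nat.prime_dvd_prime_iff_eq hr Nat.prime_two).1 (hr.dvd_of_dvd_pow h)
      · right; left; exact (Nat.prime_dvd_prime_iff_eq hr Nat.prime_three).1 h
    · right; right; left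
      exact (Nat.prime_dvd_prime_iff_eq hr Nat.prime_five).1 (hr.dvd_of_dvd_pow h)
  · right; right; right; exact (Nat.prime_dvd_prime_iff_eq hr (by norm_num)).1 h

theorem generic [Finite L] [Finite A] (hcard : Nat.card L = 62400)
    (hA1 : 1 < Nat.card A) (hA5 : ∀ a : A, a ^ 5 = 1)
    (x13 : L) (h13 : orderOf x13 = 13) (hfpf : Fpf φ x13)
    (z10 z15 : L) (h10 : orderOf z10 = 10) (h15 : orderOf z15 = 15) (N : ℕ) :
    ∃ (H : Type) (_ : Group H) (_ : Finite H), N < Nat.card H ∧
      ((∀ p : ℕ, p.Prime → (p ∣ Nat.card L ↔ p ∣ Nat.card H)) ∧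
      (∀ p q : ℕ, p.Prime → q.Prime → p ≠ q →
        ((∃ g : L, orderOf g = p * q) ↔ (∃ g : H, orderOf g = p * q)))) := by
  have hexp : ∀ u : Fin N → A, u ^ 5 = 1 := by
    intro u
    funext i
    exact hA5 (u i)
  have hA5card : ∃ m : ℕ, Nat.card A = 5 ^ m := by
    have hp : IsPGroup 5 A := by
      intro a
      exact ⟨1, by rw [pow_one]; exact hA5 a⟩
    haveI : Fact (Nat.Prime 5) := ⟨Nat.prime_five⟩
    exact hp.exists_card_eq
  refine ⟨HK φ N, inferInstance, inferInstance, ?_, ?_, ?_⟩
  · rw [card_HK, hcard]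
    have h1 : N < 2 ^ N := Nat.lt_two_pow_self
    have h2 : 2 ^ N ≤ Nat.card A ^ N := Nat.pow_le_pow_left hA1 N
    have h3 : Nat.card A ^ N ≤ Nat.card A ^ N * 62400 := Nat.le_mul_of_pos_right _ (by norm_num)
    omega
  · intro p hp
    rw [card_HK, hcard]
    constructor
    · intro h; exact Dvd.dvd.mul_left h _
    · intro h
      rcases (Nat.Prime.dvd_mul hp).1 h with h | h
      · obtain ⟨m, hm⟩ := hA5card
        rw [hm] at h
        have h5 : p ∣ 5 := hp.dvd_of_dvd_pow (hp.dvd_of_dvd_pow h)
        have : p = 5 := (Nat.prime_dvd_prime_iff_eq hp Nat.prime_five).1 h5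
        rw [this]; norm_num
      · exact h
  · intro p q hp hq hpq
    constructor
    · rintro ⟨g, hg⟩
      refine ⟨SemidirectProduct.inr g, ?_⟩
      rw [orderOf_injective (SemidirectProduct.inr : L →* HK φ N)
        SemidirectProduct.inr_injective, hg]
    · rintro ⟨h, hh⟩
      rcases orderOf_semidirect_prime (phiK φ N) 5 Nat.prime_five hexp h with h1 | h1
      · exact ⟨h.right, by rw [← h1, hh]⟩
      · set n := orderOf h.right with hn
        have hpq5 : p * q = 5 * n := by rw [← hh, h1]
        -- the prime among `p, q` different from 5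
        obtain ⟨r, hr, hr5, hnr⟩ : ∃ r : ℕ, r.Prime ∧ r ≠ 5 ∧ n = r := by
          have h5 : 5 ∣ p * q := ⟨n, hpq5⟩
          rcases (Nat.Prime.dvd_mul Nat.prime_five).1 h5 with h5 | h5
          · have hp5 : p = 5 := ((Nat.prime_dvd_prime_iff_eq Nat.prime_five hp).1 h5).symm
            refine ⟨q, hq, fun h => hpq (by rw [hp5, h]), ?_⟩
            rw [hp5] at hpq5
            omega
          · have hq5 : q = 5 := ((Nat.prime_dvd_prime_iff_eq Nat.prime_five hq).1 h5).symm
            refine ⟨p, hp, fun h => hpq (by rw [hq5, h]), ?_⟩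
            rw [hq5] at hpq5
            omega
        have hrd : r ∣ 62400 := by
          rw [← hcard, ← hnr, hn]
          exact orderOf_dvd_natCard _
        rw [hnr] at hpq5
        rcases prime_dvd_62400 hr hrd with rfl | rfl | rfl | rfl
        · exact ⟨z10, by rw [h10, hpq5]⟩
        · exact ⟨z15, by rw [h15, hpq5]⟩
        · exact absurd rfl hr5
        · exfalso
          haveI : Fact (Nat.Prime 13) := ⟨by norm_num⟩
          have hsq : ¬ 13 ^ 2 ∣ Nat.card L := by rw [hcard]; norm_num
          obtain ⟨c, hc⟩ := exists_conj_zpowers 13 x13 h.right h13 (hn ▸ hnr) hsq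
          have h13' : h ^ 13 = 1 :=
            pow_eq_one_of_fpf (phiK φ N) h 13
              (by rw [show (13 : ℕ) = orderOf h.right from (hn ▸ hnr).symm]
                  exact pow_orderOf_eq_one _)
              ((fpf_phiK φ N hfpf).of_conj (phiK φ N) hc)
          have hd : orderOf h ∣ 13 := orderOf_dvd_of_pow_eq_one h13'
          rw [hh, hpq5] at hd
          omega

end generic

end Cfsg.Agent.Helper39.U34
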