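import Cfsg.Agent.Helper39.U34.Module
import Cfsg.Agent.Helper39.U34.Data
import Cfsg.Agent.Helper10.U34F
import Cfsg.Agent.Helper23.U34E
import Cfsg.Agent.Helper68.U34X

/-!
# Helper39 / U3(4): the element of order 13 acts without fixed points on `V`; the main theorem
-/

set_option autoImplicit false

namespace Cfsg.Agent.Helper39.U34

open Cfsg.Agent.Helper8.G24

/-- if `x • v = v` in `V = W / constants` for `x` of order 13 with matrix `m13`, then `v = 0` -/
theorem fixed_zero (x : G0) (hx : mat x = m13) (h13 : orderOf x = 13) (v : V) (hv : x • v = v) :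
    v = 0 := by
  obtain ⟨w, rfl⟩ := Submodule.Quotient.mk_surjective _ v
  rw [smul_mk, Submodule.Quotient.eq] at hv
  obtain ⟨c, hc⟩ := mem_constM.1 hv
  -- `hc i : w (x⁻¹ • i) - w i = c`
  have hc' : ∀ i : Fin 65, w.1 (x⁻¹ • i) = w.1 i + c := by
    intro i
    have := hc i
    rw [← this]
    show w.1 (x⁻¹ • i) = w.1 i + ((rhoW x w : Fin 65 → ZMod 5) i - w.1 i)
    rw [rhoW_apply]
    ring
  have key : ∀ (n : ℕ) (i : Fin 65), w.1 ((x⁻¹) ^ n • i) = w.1 i + n • c := by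
    intro n
    induction n with
    | zero => intro i; simp
    | succ n ih =>
      intro i
      rw [pow_succ', mul_smul, hc', ih, succ_nsmul]
      ring
  have hc0 : c = 0 := by
    have h := key 13 0
    have hx13 : (x⁻¹) ^ 13 = 1 := by rw [inv_pow, ← h13, pow_orderOf_eq_one, inv_one]
    rw [hx13, one_smul] at h
    have h2 : (13 : ℕ) • c = 0 := by
      have := h.symm
      rwa [add_eq_left] at this
    have hgen : ∀ d : ZMod 5, (13 : ℕ) • d = 0 → d = 0 := by decide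
    exact hgen c h2
  have hfix : ∀ i : Fin 65, w.1 (x • i) = w.1 i := by
    intro i
    have := hc' (x • i)
    rw [inv_smul_smul, hc0, add_zero] at this
    exact this.symm
  obtain ⟨c', hc'⟩ := Cfsg.Agent.Helper10.U34F.fixed_const (fun i => x • i)
    (Cfsg.Agent.Helper23.U34E.act_m13 x hx) w.1 w.2 hfix
  rw [Submodule.Quotient.mk_eq_zero]
  exact mem_constM.2 ⟨c', hc'⟩

theorem fpf_x13 (x : G0) (hx : mat x = m13) (h13 : orderOf x = 13) : Fpf phi x :=
  fpf_phiOf G0 V (fixed_zero x hx h13)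

/-- `V` is not trivial, given the non-constant element `w0` of `W` -/
theorem one_lt_card (h0 : w0 ∈ W) : 1 < Nat.card (Multiplicative V) := by
  rw [Finite.one_lt_card_iff_nontrivial]
  refine ⟨⟨Multiplicative.ofAdd (Submodule.Quotient.mk ⟨w0, h0⟩), 1, ?_⟩⟩
  intro h
  have h1 : (Submodule.Quotient.mk (⟨w0, h0⟩ : W) : V) = 0 :=
    congrArg Multiplicative.toAdd h
  rw [Submodule.Quotient.mk_eq_zero] at h1
  obtain ⟨c, hc⟩ := mem_constM.1 h1
  have e0 : w0 0 = c := hc 0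
  have e1 : w0 1 = c := hc 1
  have : w0 0 ≠ w0 1 := by decide
  exact this (e0.trans e1.symm)

/-- the main theorem over `GF16` -/
theorem main_GF16 (h0 : w0 ∈ W) (N : ℕ) :
    ∃ (H : Type) (_ : Group H) (_ : Finite H), N < Nat.card H ∧
      ((∀ p : ℕ, p.Prime → (p ∣ Nat.card G0 ↔ p ∣ Nat.card H)) ∧
      (∀ p q : ℕ, p.Prime → q.Prime → p ≠ q →
        ((∃ g : G0, orderOf g = p * q) ↔ (∃ g : H, orderOf g = p * q)))) := by
  obtain ⟨x, hx, h13⟩ := Cfsg.Agent.Helper23.U34E.exists_x13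
  obtain ⟨z10, h10⟩ := Cfsg.Agent.Helper23.U34E.exists_z10
  obtain ⟨z15, h15⟩ := Cfsg.Agent.Helper23.U34E.exists_z15
  have : Finite G0 :=
    Nat.finite_of_card_ne_zero (by rw [Cfsg.Agent.Helper68.U34X.card_G0]; norm_num)
  exact generic phi Cfsg.Agent.Helper68.U34X.card_G0 (one_lt_card h0) exp_five x h13
    (fpf_x13 x hx h13) z10 z15 h10 h15 N

/-- the theorem for any field with 16 elements -/
theorem main (h0 : w0 ∈ W) {F : Type*} [Field F] [Fintype F] (hF : Fintype.card F = 16) (N : ℕ) :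
    ∃ (H : Type) (_ : Group H) (_ : Finite H), N < Nat.card H ∧
      ((∀ p : ℕ, p.Prime → (p ∣ Nat.card (Cfsg.PSU 3 F 4) ↔ p ∣ Nat.card H)) ∧
      (∀ p q : ℕ, p.Prime → q.Prime → p ≠ q →
        ((∃ g : (Cfsg.PSU 3 F 4), orderOf g = p * q) ↔ (∃ g : H, orderOf g = p * q)))) := by
  obtain ⟨e⟩ := Cfsg.Agent.Helper68.U34X.psu_equiv hF
  obtain ⟨H, iG, iF, hN, hdvd, hedge⟩ := main_GF16 h0 N
  refine ⟨H, iG, iF, hN, ?_, ?_⟩
  · intro p hp
    rw [Nat.card_congr e.toEquiv]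
    exact hdvd p hp
  · intro p q hp hq hpq
    rw [← hedge p q hp hq hpq]
    constructor
    · rintro ⟨g, hg⟩
      exact ⟨e g, by rw [MulEquiv.orderOf_eq, hg]⟩
    · rintro ⟨g, hg⟩
      exact ⟨e.symm g, by rw [MulEquiv.orderOf_eq, hg]⟩

end Cfsg.Agent.Helper39.U34
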