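import Cfsg.Agent.Helper39.U34.Act
import Cfsg.Agent.Helper10.U34I
import Cfsg.Agent.Helper39.U34.Generic

/-!
# Helper39 / U3(4): the module `V = W / (W ∩ constants)` and the action of `G0` on it
-/

set_option autoImplicit false

namespace Cfsg.Agent.Helper39.U34

open Cfsg.Agent.Helper8.G24

/-! ### a distributive action as a homomorphism to `MulAut (Multiplicative V)` -/

section phiOf

variable (L V : Type*) [Group L] [AddCommGroup V] [DistribMulAction L V]

/-- the action as a homomorphism -/
def phiOf : L →* MulAut (Multiplicative V) where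
  toFun a :=
    { toFun := fun u => Multiplicative.ofAdd (a • Multiplicative.toAdd u)
      invFun := fun u => Multiplicative.ofAdd (a⁻¹ • Multiplicative.toAdd u)
      left_inv := fun u => by
        show Multiplicative.ofAdd (a⁻¹ • (a • Multiplicative.toAdd u)) = u
        rw [inv_smul_smul]; rfl
      right_inv := fun u => by
        show Multiplicative.ofAdd (a • (a⁻¹ • Multiplicative.toAdd u)) = u
        rw [smul_inv_smul]; rfl
      map_mul' := fun u v => by
        show Multiplicative.ofAdd (a • (Multiplicative.toAdd u + Multiplicative.toAdd v)) =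
          Multiplicative.ofAdd (a • Multiplicative.toAdd u + a • Multiplicative.toAdd v)
        rw [smul_add] }
  map_one' := by
    apply MulEquiv.ext
    intro u
    show Multiplicative.ofAdd ((1 : L) • Multiplicative.toAdd u) = u
    rw [one_smul]; rfl
  map_mul' a b := by
    apply MulEquiv.ext
    intro u
    show Multiplicative.ofAdd ((a * b) • Multiplicative.toAdd u) =
      Multiplicative.ofAdd (a • (b • Multiplicative.toAdd u))
    rw [mul_smul]

theorem phiOf_apply (a : L) (u : Multiplicative V) :
    phiOf L V a u = Multiplicative.ofAdd (a • Multiplicative.toAdd u) := rfl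

/-- fixed-point-freeness in additive language -/
theorem fpf_phiOf {a : L} (h : ∀ v : V, a • v = v → v = 0) : Fpf (phiOf L V) a := by
  intro u hu
  apply Multiplicative.toAdd.injective
  show Multiplicative.toAdd u = 0
  apply h
  rw [phiOf_apply] at hu
  exact congrArg Multiplicative.toAdd hu

end phiOf

/-! ### the action on points -/

instance actG0 : MulAction G0 (Fin 65) where
  smul := act
  one_smul := act_one
  mul_smul := act_mul

theorem smul_def (g : G0) (i : Fin 65) : g • i = act g i := rfl

/-! ### the permutation representation on functions -/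

/-- the permutation representation on `Fin 65 → ZMod 5` -/
def rho : Representation (ZMod 5) G0 (Fin 65 → ZMod 5) where
  toFun g := LinearMap.funLeft (ZMod 5) (ZMod 5) (fun i => g⁻¹ • i)
  map_one' := by
    ext f i
    simp [LinearMap.funLeft]
  map_mul' g h := by
    ext f i
    simp [LinearMap.funLeft, mul_smul]

theorem rho_apply (g : G0) (f : Fin 65 → ZMod 5) (i : Fin 65) : rho g f i = f (g⁻¹ • i) := rfl

/-- the blocks are permuted by `G0` (piece INV, by helper10) -/
theorem blk_smul (g : G0) (a b z : Fin 65) : Blk (g • a) (g • b) (g • z) ↔ Blk a b z :=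
  Cfsg.Agent.Helper10.U34I.blk_act_of pt_act g a b z

theorem bsum_rho (g : G0) (w : Fin 65 → ZMod 5) (a b : Fin 65) :
    bsum (rho g w) a b = bsum w (g⁻¹ • a) (g⁻¹ • b) := by
  unfold bsum
  rw [← Equiv.sum_comp (MulAction.toPerm g)]
  refine Finset.sum_congr rfl fun z _ => ?_
  have h1 : (MulAction.toPerm g) z = g • z := rfl
  have h2 : Blk a b (g • z) ↔ Blk (g⁻¹ • a) (g⁻¹ • b) z := by
    have := blk_smul g⁻¹ a b (g • z)
    rw [inv_smul_smul] at this
    exact this.symm
  rw [h1, rho_apply, inv_smul_smul]
  by_cases h : Blk a b (g • z)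
  · rw [if_pos h, if_pos (h2.1 h)]
  · rw [if_neg h, if_neg (fun h' => h (h2.2 h'))]

theorem W_invariant (g : G0) : W ≤ W.comap (rho g) := by
  intro w hw
  rw [Submodule.mem_comap, mem_W]
  intro a b hab
  rw [bsum_rho]
  exact hw _ _ (fun h => hab (smul_left_cancel _ h))

/-- the representation on `W` -/
def rhoW : Representation (ZMod 5) G0 W := rho.subrepresentation W W_invariant

/-- the constant functions -/
def constM : Submodule (ZMod 5) (Fin 65 → ZMod 5) :=
  LinearMap.range (LinearMap.pi fun _ => LinearMap.id : ZMod 5 →ₗ[ZMod 5] (Fin 65 → ZMod 5))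

theorem mem_constM {f : Fin 65 → ZMod 5} : f ∈ constM ↔ ∃ c : ZMod 5, ∀ i, f i = c := by
  unfold constM
  rw [LinearMap.mem_range]
  constructor
  · rintro ⟨c, rfl⟩
    exact ⟨c, fun i => rfl⟩
  · rintro ⟨c, hc⟩
    exact ⟨c, funext fun i => (hc i).symm⟩

/-- the constant functions inside `W` -/
def constW : Submodule (ZMod 5) W := constM.comap W.subtype

theorem constW_invariant (g : G0) : constW ≤ constW.comap (rhoW g) := by
  intro w hw
  obtain ⟨c, hc⟩ := mem_constM.1 hw
  exact mem_constM.2 ⟨c, fun i => hc _⟩

/-- the module -/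
abbrev V : Type := W ⧸ constW

/-- the representation on `V` -/
def rhoV : Representation (ZMod 5) G0 V := rhoW.quotient constW constW_invariant

instance : DistribMulAction G0 V := DistribMulAction.compHom V rhoV

theorem smul_mk (g : G0) (w : W) :
    g • (Submodule.Quotient.mk w : V) = Submodule.Quotient.mk (rhoW g w) := rfl

theorem rhoW_apply (g : G0) (w : W) (i : Fin 65) : (rhoW g w : Fin 65 → ZMod 5) i = w.1 (g⁻¹ • i) :=
  rfl

instance : Finite V := Finite.of_surjective constW.mkQ (Submodule.mkQ_surjective _)

/-- the action on `Multiplicative V` -/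
def phi : G0 →* MulAut (Multiplicative V) := phiOf G0 V

theorem exp_five (a : Multiplicative V) : a ^ 5 = 1 := by
  apply Multiplicative.toAdd.injective
  show (5 : ℕ) • Multiplicative.toAdd a = 0
  rw [← Nat.cast_smul_eq_nsmul (ZMod 5)]
  have : ((5 : ℕ) : ZMod 5) = 0 := by decide
  rw [this, zero_smul]

end Cfsg.Agent.Helper39.U34
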