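import Cfsg.Agent.Helper8.G24S

/-!
# Helper39 / U3(4): element orders in `V ⋊ P` with `V` of prime exponent `ℓ`
(generalises `Cfsg.Agent.Helper8.G24.orderOf_semidirect`, which is the case `ℓ = 2`)
-/

set_option autoImplicit false

namespace Cfsg.Agent.Helper39.U34

open Cfsg.Agent.Helper8.G24

variable {V P : Type*} [CommGroup V] [Group P] (φ : P →* MulAut V)

theorem orderOf_semidirect_prime (ℓ : ℕ) (hℓ : ℓ.Prime) (hV : ∀ u : V, u ^ ℓ = 1)
    (h : V ⋊[φ] P) :
    orderOf h = orderOf h.right ∨ orderOf h = ℓ * orderOf h.right := by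
  set n := orderOf h.right with hn
  have h1 : n ∣ orderOf h := by
    have := orderOf_map_dvd (SemidirectProduct.rightHom : V ⋊[φ] P →* P) h
    rwa [SemidirectProduct.rightHom_eq_right] at this
  have h2 : orderOf h ∣ ℓ * n := by
    apply orderOf_dvd_of_pow_eq_one
    have hr : (h ^ n).right = 1 := by
      have : (h ^ n).right = h.right ^ n := by
        rw [← SemidirectProduct.rightHom_eq_right, map_pow]
      rw [this, hn, pow_orderOf_eq_one]
    obtain ⟨u, hu⟩ := exists_inl_of_right_eq_one φ _ hr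
    rw [mul_comm, pow_mul, hu, ← map_pow, hV, map_one]
  obtain ⟨c, hc⟩ := h1
  rcases Nat.eq_zero_or_pos n with h0 | hpos
  · left; rw [hc, h0, zero_mul]
  · rw [hc, mul_comm ℓ n] at h2
    have hc2 : c ∣ ℓ := Nat.dvd_of_mul_dvd_mul_left hpos h2
    rcases (Nat.dvd_prime hℓ).1 hc2 with rfl | rfl
    · left; rw [hc, mul_one]
    · right; rw [hc, mul_comm]

end Cfsg.Agent.Helper39.U34
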